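import Groth.Agent.FiltModLib.Split

/-!
# A fibrewise criterion for a filtration to be split
-/

open TensorProduct

namespace Groth.Agent.FiltModLib

open scoped Classical

variable {Γ : Type*} [LinearOrder Γ]

section VectorSpace

variable {K V : Type*} [Field K] [AddCommGroup V] [Module K V] [FiniteDimensional K V]

/-- The sum of the jumps is at most the dimension spanned by lifts of the jumps. -/
theorem sum_jumps_le (F Fp G : Γ → Submodule K V) (hFp : ∀ γ η, γ < η → F η ≤ Fp γ)
    (hGF : ∀ γ, G γ ≤ F γ) (hFG : ∀ γ, F γ ≤ G γ ⊔ Fp γ) (S : Finset Γ) :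
    ∑ γ ∈ S, (Module.finrank K (F γ) - Module.finrank K (Fp γ)) ≤
      Module.finrank K ↥(S.sup G) := by
  induction S using Finset.induction_on_min with
  | empty => simp
  | insert a s ha ih =>
    rw [Finset.sum_insert (fun h => lt_irrefl a (ha a h)), Finset.sup_insert]
    have hs : s.sup G ≤ Fp a := Finset.sup_le fun η hη => (hGF η).trans (hFp a η (ha η hη))
    have h1 := Submodule.finrank_sup_add_finrank_inf_eq (G a ⊔ s.sup G) (Fp a)
    have h2 : F a ≤ (G a ⊔ s.sup G) ⊔ Fp a := (hFG a).trans (sup_le_sup_right le_sup_left _)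
    have h3 : s.sup G ≤ (G a ⊔ s.sup G) ⊓ Fp a := le_inf le_sup_right hs
    have := Submodule.finrank_mono h2
    have := Submodule.finrank_mono h3
    have := Submodule.finrank_mono (inf_le_left : (G a ⊔ s.sup G) ⊓ Fp a ≤ G a ⊔ s.sup G)
    omega

/-- The jumps of a filtration spanned by pieces add up to the dimension of their span. -/
theorem sum_jumps_eq (G : Γ → Submodule K V) (S : Finset Γ) :
    ∑ γ ∈ S, (Module.finrank K ↥((S.filter (γ ≤ ·)).sup G) -
      Module.finrank K ↥((S.filter (γ < ·)).sup G)) = Module.finrank K ↥(S.sup G) := by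
  induction S using Finset.induction_on_min with
  | empty => rw [Finset.sum_empty, Finset.sup_empty, finrank_bot]
  | insert a s ha ih =>
    have has : a ∉ s := fun h => lt_irrefl a (ha a h)
    rw [Finset.sum_insert has]
    have e1 : (insert a s).filter (a ≤ ·) = insert a s :=
      Finset.filter_true_of_mem fun x hx => by
        rcases Finset.mem_insert.1 hx with rfl | h
        · exact le_rfl
        · exact (ha x h).le
    have e2 : (insert a s).filter (a < ·) = s := by
      rw [Finset.filter_insert, if_neg (lt_irrefl a), Finset.filter_true_of_mem ha]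
    have e3 : ∀ γ ∈ s, (insert a s).filter (γ ≤ ·) = s.filter (γ ≤ ·) ∧
        (insert a s).filter (γ < ·) = s.filter (γ < ·) := fun γ hγ => by
      constructor <;> rw [Finset.filter_insert, if_neg]
      · exact not_le_of_gt (ha γ hγ)
      · exact not_lt_of_gt (ha γ hγ)
    rw [e1, e2, Finset.sum_congr rfl (fun γ hγ => by rw [(e3 γ hγ).1, (e3 γ hγ).2]), ih]
    have : Module.finrank K ↥(s.sup G) ≤ Module.finrank K ↥((insert a s).sup G) :=
      Submodule.finrank_mono (Finset.sup_mono (Finset.subset_insert a s))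
    omega

end VectorSpace

variable {R : Type*} [CommRing R] {M : Type*} [AddCommGroup M] [Module R M]

section Fibre

variable (A : Type*) [CommRing A] [Algebra R A]

/-- The image of a submodule in a base change. -/
noncomputable def img (N : Submodule R M) : Submodule A (A ⊗[R] M) :=
  LinearMap.range (N.subtype.baseChange A)

theorem tmul_mem_img (N : Submodule R M) (a : A) {x : M} (hx : x ∈ N) : a ⊗ₜ x ∈ img A N :=
  ⟨a ⊗ₜ ⟨x, hx⟩, by simp⟩

theorem img_le_iff (N : Submodule R M) (P : Submodule A (A ⊗[R] M)) :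
    img A N ≤ P ↔ ∀ x ∈ N, (1 : A) ⊗ₜ x ∈ P := by
  refine ⟨fun h x hx => h (tmul_mem_img A N 1 hx), fun h => ?_⟩
  rintro _ ⟨t, rfl⟩
  induction t with
  | zero => simp
  | add a b ha hb => rw [map_add]; exact add_mem ha hb
  | tmul a x =>
    rw [LinearMap.baseChange_tmul, show a ⊗ₜ[R] N.subtype x = a • ((1 : A) ⊗ₜ[R] (x : M)) by
      rw [smul_tmul', smul_eq_mul, mul_one]; rfl]
    exact P.smul_mem _ (h _ x.2)

theorem img_mono {N N' : Submodule R M} (h : N ≤ N') : img A N ≤ img A N' :=
  (img_le_iff A N _).2 fun _ hx => tmul_mem_img A N' 1 (h hx)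

theorem img_sup (N N' : Submodule R M) : img A (N ⊔ N') = img A N ⊔ img A N' := by
  refine le_antisymm ((img_le_iff A _ _).2 fun x hx => ?_)
    (sup_le (img_mono A le_sup_left) (img_mono A le_sup_right))
  obtain ⟨y, hy, z, hz, rfl⟩ := Submodule.mem_sup.1 hx
  rw [tmul_add]
  exact add_mem (Submodule.mem_sup_left (tmul_mem_img A N 1 hy))
    (Submodule.mem_sup_right (tmul_mem_img A N' 1 hz))

theorem img_bot : img A (⊥ : Submodule R M) = ⊥ :=
  eq_bot_iff.2 ((img_le_iff A _ _).2 fun x hx => by
    rw [(Submodule.mem_bot R).1 hx, tmul_zero]; exact zero_mem _)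

theorem img_top : img A (⊤ : Submodule R M) = ⊤ := by
  rw [eq_top_iff]
  rintro t -
  induction t with
  | zero => exact zero_mem _
  | add a b ha hb => exact add_mem ha hb
  | tmul a x => exact tmul_mem_img A ⊤ a trivial

theorem img_finsetSup {ι : Type*} (S : Finset ι) (G : ι → Submodule R M) :
    img A (S.sup G) = S.sup fun i => img A (G i) := by
  induction S using Finset.cons_induction with
  | empty => simpa using img_bot A
  | cons a s ha ih => rw [Finset.sup_cons, Finset.sup_cons, img_sup, ih]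

theorem img_biSup {ι : Type*} (s : Set ι) (G : ι → Submodule R M) :
    img A (⨆ i ∈ s, G i) = ⨆ i ∈ s, img A (G i) := by
  refine le_antisymm ((img_le_iff A _ _).2 fun x hx => ?_)
    (iSup₂_le fun i hi => img_mono A (le_biSup G hi))
  have : (⨆ i ∈ s, G i) ≤ ((⨆ i ∈ s, img A (G i)).restrictScalars R).comap
      (TensorProduct.mk R A M 1) := iSup₂_le fun i hi y hy =>
    le_biSup (fun i => img A (G i)) hi (tmul_mem_img A (G i) 1 hy)
  exact this hx

end Fibre

theorem finite_span_top [Module.Finite R M] (G : Γ → Submodule R M)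
    (h : ∀ p : PrimeSpectrum R, ∃ S : Finset Γ, S.sup (fun γ => img p.asIdeal.ResidueField (G γ)) = ⊤) :
    ∃ S : Finset Γ, S.sup G = ⊤ := by
  -- the ideal of scalars multiplying `M` into a finite sum of the `G γ`
  let J : Ideal R := ⨆ S : Finset Γ, (S.sup G).colon (Set.univ : Set M)
  suffices hJ : J = ⊤ by
    have hdir : Directed (· ≤ ·) fun S : Finset Γ => (S.sup G).colon (Set.univ : Set M) :=
      Monotone.directed_le fun S T hST => Submodule.colon_mono (Finset.sup_mono hST) subset_rfl
    obtain ⟨S, hS⟩ := (Submodule.mem_iSup_of_directed _ hdir).1 ((Ideal.eq_top_iff_one J).1 hJ)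
    refine ⟨S, eq_top_iff.2 fun x _ => ?_⟩
    simpa using Submodule.mem_colon.1 hS x trivial
  by_contra hJ
  obtain ⟨m, hm, hJm⟩ := Ideal.exists_le_maximal J hJ
  obtain ⟨S, hS⟩ := h ⟨m, hm.isPrime⟩
  set N := S.sup G with hN
  rw [← img_finsetSup, ← hN] at hS
  let e : m.ResidueField ⊗[R] M ≃ₗ[R] M ⧸ m • (⊤ : Submodule R M) :=
    (TensorProduct.congr (LinearEquiv.ofBijective (Algebra.linearMap (R ⧸ m) m.ResidueField)
      m.bijective_algebraMap_quotient_residueField |>.restrictScalars R).symm (LinearEquiv.refl R M)) ≪≫ₗ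
      TensorProduct.quotTensorEquivQuotSMul M m
  have he : ∀ x : M, e.symm (Submodule.Quotient.mk x) = (1 : m.ResidueField) ⊗ₜ[R] x := fun x => by
    simp [e, TensorProduct.quotTensorEquivQuotSMul_symm_mk]
  have hle : (⊤ : Submodule R M) ≤ N ⊔ m • (⊤ : Submodule R M) := by
    intro x _
    have hx : ∀ t ∈ img m.ResidueField N, e t ∈ N.map (m • (⊤ : Submodule R M)).mkQ := by
      rintro _ ⟨u, rfl⟩
      induction u with
      | zero => simp
      | add a b ha hb => rw [map_add, map_add]; exact add_mem ha hb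
      | tmul a y =>
        obtain ⟨c, rfl⟩ : ∃ c : R, algebraMap R m.ResidueField c = a := by
          obtain ⟨c', hc'⟩ := m.bijective_algebraMap_quotient_residueField.2 a
          obtain ⟨c, rfl⟩ := Ideal.Quotient.mk_surjective c'
          exact ⟨c, hc'.symm ▸ IsScalarTower.algebraMap_apply R (R ⧸ m) m.ResidueField c⟩
        refine ⟨c • (y : M), N.smul_mem c y.2, e.symm.injective ?_⟩
        rw [LinearEquiv.symm_apply_apply, Submodule.mkQ_apply, he, LinearMap.baseChange_tmul,
          Submodule.subtype_apply, tmul_smul, smul_tmul', ← Algebra.algebraMap_eq_smul_one]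
    have := hx (e.symm (Submodule.Quotient.mk x)) (by
      change _ ∈ img m.ResidueField N
      have hS' : img m.ResidueField N = ⊤ := hS
      rw [hS']; trivial)
    rw [LinearEquiv.apply_symm_apply] at this
    obtain ⟨y, hy, hyx⟩ := this
    rw [Submodule.mkQ_apply, Submodule.Quotient.eq] at hyx
    rw [← sub_sub_cancel y x]
    exact sub_mem (Submodule.mem_sup_left hy) (Submodule.mem_sup_right hyx)
  have hle' : (⊤ : Submodule R (M ⧸ N)) ≤ m • (⊤ : Submodule R (M ⧸ N)) := by
    have := Submodule.map_mono (f := N.mkQ) hle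
    rwa [Submodule.map_top, Submodule.range_mkQ, Submodule.map_sup, Submodule.map_smul'',
      Submodule.map_top, Submodule.range_mkQ, Submodule.mkQ_map_self, bot_sup_eq] at this
  obtain ⟨r, hr, hr0⟩ := Submodule.exists_sub_one_mem_and_smul_eq_zero_of_fg_of_le_smul m _
    (Module.Finite.fg_top (R := R) (M := M ⧸ N)) hle'
  have hrJ : r ∈ J := Submodule.mem_iSup_of_mem S (Submodule.mem_colon.2 fun x _ => by
    have := hr0 (Submodule.Quotient.mk x) trivial
    rwa [← Submodule.Quotient.mk_smul, Submodule.Quotient.mk_eq_zero] at this)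
  exact hm.ne_top ((Ideal.eq_top_iff_one m).2 (by simpa using sub_mem (hJm hrJ) hr))

theorem split_iff [Module.Finite R M] [Module.Projective R M] (F : Γ → Submodule R M) (hF : Antitone F)
    (Fp : Γ → Submodule R M) (hFp : ∀ γ, Fp γ = ⨆ η ∈ Set.Ioi γ, F η) :
    (∃ G : Γ → Submodule R M, DirectSum.IsInternal G ∧ ∀ γ, F γ = ⨆ η ∈ Set.Ici γ, G η) ↔
    ((∀ γ, Module.Finite R (↥(F γ) ⧸ Submodule.comap (F γ).subtype (Fp γ)) ∧
        Module.Projective R (↥(F γ) ⧸ Submodule.comap (F γ).subtype (Fp γ))) ∧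
      ∀ (p : PrimeSpectrum R) (Fx : Γ → Submodule p.asIdeal.ResidueField (p.asIdeal.ResidueField ⊗[R] M)),
        (∀ γ, Fx γ = LinearMap.range ((F γ).subtype.baseChange p.asIdeal.ResidueField)) →
        Module.finrank p.asIdeal.ResidueField (p.asIdeal.ResidueField ⊗[R] M) =
          ∑ᶠ γ, (Module.finrank p.asIdeal.ResidueField ↥(Fx γ) -
            Module.finrank p.asIdeal.ResidueField ↥(⨆ η ∈ Set.Ioi γ, Fx η))) := by
  constructor
  · rintro ⟨G, hG, hFG⟩
    refine ⟨fun γ => ?_, fun p Fx hFx => ?_⟩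
    · obtain ⟨h1, h2⟩ := split_pieces hG hFG γ
      rw [hFp]
      have := projective_piece hG γ
      have := finite_piece hG γ
      exact ⟨Module.Finite.equiv (pieceEquiv h1 h2), Module.Projective.of_equiv (pieceEquiv h1 h2)⟩
    · obtain ⟨S, hS, hS0⟩ := exists_finset hG
      set K := p.asIdeal.ResidueField
      let Gx : Γ → Submodule K (K ⊗[R] M) := fun γ => img K (G γ)
      have hsup : ∀ s : Set Γ, (⨆ η ∈ s, Gx η) = (S.filter (· ∈ s)).sup Gx := fun s => by
        refine le_antisymm (iSup₂_le fun η hη => ?_) (Finset.sup_le fun η hη => le_biSup Gx (Finset.mem_filter.1 hη).2)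
        by_cases hηS : η ∈ S
        · exact Finset.le_sup (f := Gx) (Finset.mem_filter.2 ⟨hηS, hη⟩)
        · simp [Gx, hS0 η hηS, img_bot]
      have e1 : ∀ γ, Fx γ = (S.filter (γ ≤ ·)).sup Gx := fun γ => by
        rw [hFx, show LinearMap.range ((F γ).subtype.baseChange K) = img K (F γ) from rfl, hFG,
          img_biSup, hsup]
        simp
      have e2 : ∀ γ, (⨆ η ∈ Set.Ioi γ, Fx η) = (S.filter (γ < ·)).sup Gx := fun γ => by
        have : (⨆ η ∈ Set.Ioi γ, Fx η) = img K (⨆ η ∈ Set.Ioi γ, F η) := by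
          rw [img_biSup]; simp only [hFx]; rfl
        rw [this, biSup_Ioi hFG, img_biSup, hsup]
        simp
      have h' : ∀ γ, Module.finrank K ↥(Fx γ) - Module.finrank K ↥(⨆ η ∈ Set.Ioi γ, Fx η) =
          Module.finrank K ↥((S.filter (γ ≤ ·)).sup Gx) - Module.finrank K ↥((S.filter (γ < ·)).sup Gx) :=
        fun γ => congrArg₂ (fun A B : Submodule K (K ⊗[R] M) => Module.finrank K A - Module.finrank K B)
          (e1 γ) (e2 γ)
      rw [finsum_eq_sum_of_support_subset _ (s := S) fun γ hγ => ?_]
      · refine Eq.symm ((Finset.sum_congr rfl fun γ _ => h' γ).trans ?_)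
        rw [sum_jumps_eq Gx S, show S.sup Gx = ⊤ by
          rw [← img_finsetSup K S G, hS, img_top], finrank_top]
      · by_contra hγS
        refine hγ ((h' γ).trans ?_)
        have : S.filter (γ ≤ ·) = S.filter (γ < ·) := Finset.filter_congr fun x hx =>
          ⟨fun h => lt_of_le_of_ne h fun he => hγS (he ▸ hx), le_of_lt⟩
        rw [this, Nat.sub_self]
  · rintro ⟨hgr, hfib⟩
    have hp : ∀ γ, Module.Projective R (↥(F γ) ⧸ Submodule.comap (F γ).subtype (Fp γ)) :=
      fun γ => (hgr γ).2
    choose G hGle hGdisj hGsup using fun γ => exists_complement (F γ) (Fp γ)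
    suffices hS : ∃ S : Finset Γ, S.sup G = ⊤ by
      obtain ⟨S, hS⟩ := hS
      exact ⟨G, splits_of_sections hF hFp hGle hGdisj S hS⟩
    refine finite_span_top G fun p => ?_
    set K := p.asIdeal.ResidueField
    have hval := hfib p (fun γ => img K (F γ)) (fun γ => rfl)
    let jump : Γ → ℕ := fun γ => Module.finrank K ↥(img K (F γ)) -
      Module.finrank K ↥(⨆ η ∈ Set.Ioi γ, img K (F η))
    have hbound : ∀ S : Finset Γ, ∑ γ ∈ S, jump γ ≤ Module.finrank K ↥(S.sup fun γ => img K (G γ)) := by
      intro S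
      refine sum_jumps_le (fun γ => img K (F γ)) (fun γ => ⨆ η ∈ Set.Ioi γ, img K (F η))
        (fun γ => img K (G γ)) (fun γ η h => le_biSup (fun i => img K (F i)) h)
        (fun γ => img_mono K (hGle γ)) (fun γ => ?_) S
      refine (img_mono K (hGsup γ)).trans (le_of_eq ?_)
      rw [img_sup, hFp, img_biSup]
    by_cases hfin : (Function.support jump).Finite
    · refine ⟨hfin.toFinset, Submodule.eq_top_of_finrank_eq (le_antisymm (Submodule.finrank_le _) ?_)⟩
      refine le_trans (le_of_eq ?_) (hbound _)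
      rw [hval]
      exact finsum_eq_sum _ hfin
    · have h0 : Module.finrank K (K ⊗[R] M) = 0 := hval.trans (finsum_of_infinite_support hfin)
      refine ⟨∅, Submodule.eq_top_of_finrank_eq (le_antisymm (Submodule.finrank_le _) ?_)⟩
      rw [h0]; exact Nat.zero_le _

end Groth.Agent.FiltModLib
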