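import Groth.Agent.FiltModLib.Split

/-!
# Split filtrations: products, tensor powers, a criterion by fibres
-/

open TensorProduct

namespace Groth.Agent.FiltModLib

open scoped Classical

variable {Γ : Type*} [LinearOrder Γ] {R : Type*} [CommRing R]

section Retract

variable {M N : Type*} [AddCommGroup M] [Module R M] [AddCommGroup N] [Module R N]

/-- A retract of a split filtration of a projective module is split. -/
theorem split_of_retract [Module.Finite R M] [Module.Projective R M]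
    {F : Γ → Submodule R M} {G : Γ → Submodule R M} (hG : DirectSum.IsInternal G)
    (hF : ∀ γ, F γ = ⨆ η ∈ Set.Ici γ, G η) {F' : Γ → Submodule R N} (hF' : Antitone F')
    (i : N →ₗ[R] M) (p : M →ₗ[R] N) (hpi : ∀ x, p (i x) = x)
    (hi : ∀ γ, (F' γ).map i ≤ F γ) (hp : ∀ γ, (F γ).map p ≤ F' γ) :
    ∃ G' : Γ → Submodule R N, DirectSum.IsInternal G' ∧ ∀ γ, F' γ = ⨆ η ∈ Set.Ici γ, G' η := by
  let Fp' : Γ → Submodule R N := fun γ => ⨆ η ∈ Set.Ioi γ, F' η
  let Fp : Γ → Submodule R M := fun γ => ⨆ η ∈ Set.Ioi γ, F η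
  have hi' : ∀ γ, (Fp' γ).map i ≤ Fp γ := fun γ => by
    simp only [Fp', Fp, Submodule.map_iSup]
    exact iSup₂_mono fun η _ => hi η
  have hp' : ∀ γ, (Fp γ).map p ≤ Fp' γ := fun γ => by
    simp only [Fp', Fp, Submodule.map_iSup]
    exact iSup₂_mono fun η _ => hp η
  have hproj : ∀ γ, Module.Projective R (F' γ ⧸ (Fp' γ).comap (F' γ).subtype) := fun γ => by
    have := projective_piece hG γ
    obtain ⟨h1, h2⟩ := split_pieces hG hF γ
    have : Module.Projective R (F γ ⧸ (Fp γ).comap (F γ).subtype) :=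
      Module.Projective.of_equiv (pieceEquiv h1 h2)
    refine Module.Projective.of_split
      (Submodule.mapQ ((Fp' γ).comap (F' γ).subtype) ((Fp γ).comap (F γ).subtype) ((i ∘ₗ (F' γ).subtype).codRestrict (F γ) fun x => hi γ ⟨x, x.2, rfl⟩)
        fun x hx => hi' γ ⟨x, hx, rfl⟩)
      (Submodule.mapQ ((Fp γ).comap (F γ).subtype) ((Fp' γ).comap (F' γ).subtype) ((p ∘ₗ (F γ).subtype).codRestrict (F' γ) fun x => hp γ ⟨x, x.2, rfl⟩)
        fun x hx => hp' γ ⟨x, hx, rfl⟩) ?_
    refine Submodule.linearMap_qext _ ?_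
    ext x
    simp only [LinearMap.coe_comp, Function.comp_apply, Submodule.mkQ_apply, Submodule.mapQ_apply,
      LinearMap.id_coe, id_eq]
    exact congrArg Submodule.Quotient.mk (Subtype.ext (hpi x))
  choose G' hG'le hG'disj hG'sup using fun γ => exists_complement (F' γ) (Fp' γ) (R := R)
  obtain ⟨S, hS, -⟩ := exists_finset hG
  refine ⟨G', splits_of_sections hF' (Fp := Fp') (fun _ => rfl) hG'le hG'disj S ?_⟩
  have key : ∀ η, η ∈ S → (G η).map p ≤ S.sup G' := by
    by_contra! hcon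
    obtain ⟨η₀, hη₀⟩ := hcon
    obtain ⟨η, hη, hmax⟩ := (S.filter fun η => ¬ (G η).map p ≤ S.sup G').exists_max_image id
      ⟨η₀, Finset.mem_filter.2 ⟨hη₀.1, hη₀.2⟩⟩
    obtain ⟨hηS, hne⟩ := Finset.mem_filter.1 hη
    refine hne ?_
    have h1 : (G η).map p ≤ G' η ⊔ Fp' η := by
      refine le_trans (Submodule.map_mono ?_) ((hp η).trans (hG'sup η))
      rw [hF]
      exact le_biSup G (Set.self_mem_Ici)
    refine h1.trans (sup_le (Finset.le_sup hηS) (iSup₂_le fun θ hθ y hy => ?_))
    rw [← hpi y]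
    have hy' : i y ∈ F θ := hi θ ⟨y, hy, rfl⟩
    rw [hF] at hy'
    have h2 : (⨆ ζ ∈ Set.Ici θ, G ζ).map p ≤ S.sup G' := by
      simp only [Submodule.map_iSup]
      refine iSup₂_le fun ζ hζ => ?_
      by_contra hζ'
      by_cases hζS : ζ ∈ S
      · have := hmax ζ (Finset.mem_filter.2 ⟨hζS, hζ'⟩)
        exact absurd (lt_of_lt_of_le (lt_of_lt_of_le hθ hζ) this) (lt_irrefl _)
      · refine hζ' ?_
        rintro _ ⟨z, hz, rfl⟩
        have hz0 : proj hG ζ z = 0 := by
          have : S.sup G ≤ LinearMap.ker (proj hG ζ) := Finset.sup_le fun ξ hξ w hw => by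
            rw [LinearMap.mem_ker, proj_of_mem hG hw, if_neg (fun h : ξ = ζ => hζS (h ▸ hξ))]
          exact this (hS.symm ▸ Submodule.mem_top)
        rw [proj_idem hG hz] at hz0
        simp [hz0]
    exact h2 ⟨i y, hy', rfl⟩
  rw [eq_top_iff]
  intro y _
  have h3 : (S.sup G).map p ≤ S.sup G' := by
    rw [Finset.sup_eq_iSup, Submodule.map_iSup]
    refine iSup_le fun η => ?_
    rw [Submodule.map_iSup]
    exact iSup_le fun hη => key η hη
  exact hpi y ▸ h3 ⟨i y, hS.symm ▸ Submodule.mem_top, rfl⟩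

end Retract

section Pi

variable {A : Type*} [Fintype A] {M : A → Type*} [∀ a, AddCommGroup (M a)] [∀ a, Module R (M a)]
  [∀ a, Module.Finite R (M a)]

theorem split_pi_iff [∀ a, Module.Projective R (M a)] (F : ∀ a, Γ → Submodule R (M a))
    (hF : ∀ a, Antitone (F a)) :
    (∃ G : Γ → Submodule R (∀ a, M a), DirectSum.IsInternal G ∧
        ∀ γ, Submodule.pi Set.univ (fun a => F a γ) = ⨆ η ∈ Set.Ici γ, G η) ↔
    ∀ a, ∃ G : Γ → Submodule R (M a), DirectSum.IsInternal G ∧ ∀ γ, F a γ = ⨆ η ∈ Set.Ici γ, G η := by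
  constructor
  · rintro ⟨G, hG, hFG⟩ a
    have : Module.Projective R (∀ a, M a) :=
      Module.Projective.of_equiv (DirectSum.linearEquivFunOnFintype R A M)
    refine split_of_retract (F := fun γ => Submodule.pi Set.univ (fun a => F a γ)) hG hFG (hF a)
      (LinearMap.single R M a) (LinearMap.proj a) (fun x => by simp) ?_ ?_
    · rintro γ _ ⟨x, hx, rfl⟩ b -
      rcases eq_or_ne b a with rfl | hne
      · simpa using hx
      · simp [hne]
    · rintro γ _ ⟨x, hx, rfl⟩
      exact hx a trivial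
  · intro h
    choose G hG hFG using h
    choose S hS hS0 using fun a => exists_finset (hG a)
    refine ⟨fun γ => Submodule.pi Set.univ (fun a => G a γ), ?_⟩
    have hle : ∀ γ, Submodule.pi Set.univ (fun a => G a γ) ≤ Submodule.pi Set.univ (fun a => F a γ) :=
      fun γ => Submodule.pi_mono fun a _ => hFG a γ ▸ le_biSup (G a) Set.self_mem_Ici
    refine splits_of_sections (F := fun γ => Submodule.pi Set.univ (fun a => F a γ))
      (Fp := fun γ => ⨆ η ∈ Set.Ioi γ, Submodule.pi Set.univ (fun a => F a η))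
      (fun x y hxy => Submodule.pi_mono fun a _ => hF a hxy) (fun _ => rfl) hle (fun γ => ?_)
      (Finset.univ.biUnion S) ?_
    · rw [eq_bot_iff]
      rintro x ⟨hx, hx'⟩
      rw [Submodule.mem_bot]
      ext a
      have h1 : (LinearMap.proj (R := R) a) x ∈ ⨆ η ∈ Set.Ioi γ, F a η := by
        have : (⨆ η ∈ Set.Ioi γ, Submodule.pi Set.univ (fun a => F a η)) ≤
            (⨆ η ∈ Set.Ioi γ, F a η).comap (LinearMap.proj a) := iSup₂_le fun η hη y hy =>
          le_biSup (F a) hη (hy a trivial)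
        exact this hx'
      have h2 : x a ∈ G a γ ⊓ (⨆ η ∈ Set.Ioi γ, F a η) := ⟨hx a trivial, h1⟩
      rw [(split_pieces (hG a) (hFG a) γ).2, Submodule.mem_bot] at h2
      exact h2
    · rw [eq_top_iff]
      intro x _
      rw [← Finset.univ_sum_single x]
      refine Submodule.sum_mem _ fun a _ => ?_
      have : (S a).sup (G a) ≤ ((Finset.univ.biUnion S).sup
          fun γ => Submodule.pi Set.univ fun b => G b γ).comap (LinearMap.single R M a) :=
        Finset.sup_le fun η hη y hy => Finset.le_sup (f := fun γ => Submodule.pi Set.univ fun b => G b γ)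
          (Finset.mem_biUnion.2 ⟨a, Finset.mem_univ a, hη⟩) fun b _ => by
            rcases eq_or_ne b a with rfl | hne
            · simpa using hy
            · simp [hne]
      exact this ((hS a).symm ▸ Submodule.mem_top)

end Pi

section Power

variable {M : Type*} [AddCommGroup M] [Module R M] [Module.Finite R M] [Module.Projective R M]

theorem le_of_tensorPower_eq {Γ : Type*} [AddCommGroup Γ] [LinearOrder Γ] [IsOrderedAddMonoid Γ]
    {F₁ F₂ : Γ → Submodule R M} (hanti : Antitone F₁) {G : Γ → Submodule R M} (hG : DirectSum.IsInternal G)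
    (h₂ : ∀ γ, F₂ γ = ⨆ η ∈ Set.Ici γ, G η) (k : ℕ) (hk : 1 ≤ k)
    (h : ∀ γ : Γ,
      (⨆ c : {c : Fin k → Γ // ∑ i, c i = γ}, LinearMap.range (PiTensorProduct.map (R := R) (fun i => (F₁ (c.1 i)).subtype))) =
      (⨆ c : {c : Fin k → Γ // ∑ i, c i = γ}, LinearMap.range (PiTensorProduct.map (R := R) (fun i => (F₂ (c.1 i)).subtype))))
    (γ : Γ) : F₁ γ ≤ F₂ γ := by
  intro x hx
  let P : ∀ η, M →ₗ[R] M := proj hG
  -- it suffices that all components below `γ` vanish
  suffices hzero : ∀ η, η < γ → P η x = 0 by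
    obtain ⟨S, hS, -⟩ := exists_finset hG
    have hx' : x = ∑ η ∈ S, P η x := by
      have : S.sup G ≤ LinearMap.eqLocus LinearMap.id (∑ η ∈ S, P η) := Finset.sup_le fun ξ hξ w hw => by
        rw [LinearMap.mem_eqLocus, LinearMap.id_apply, LinearMap.sum_apply,
          Finset.sum_eq_single_of_mem ξ hξ fun b _ hb => by
            simp only [P, proj_of_mem hG hw, if_neg hb.symm]]
        exact (proj_idem hG hw).symm
      simpa using this (hS.symm ▸ Submodule.mem_top : x ∈ S.sup G)
    rw [hx', h₂]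
    refine Submodule.sum_mem _ fun η _ => ?_
    by_cases hη : γ ≤ η
    · exact le_biSup G (show η ∈ Set.Ici γ from hη) (proj_mem hG η x)
    · rw [hzero η (lt_of_not_ge hη)]; exact zero_mem _
  intro η hη
  set g := P η x with hgdef
  by_contra hg
  obtain ⟨m, hm, hgm⟩ := Ideal.exists_le_maximal (LinearMap.ker (LinearMap.toSpanSingleton R M g))
    (fun h' => hg (by simpa using LinearMap.mem_ker.1 (h'.symm ▸ Submodule.mem_top :
      (1 : R) ∈ LinearMap.ker (LinearMap.toSpanSingleton R M g))))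
  -- evaluation of a tensor at `⊗ (f i ∘ P η)`
  let Φ : (Fin k → (M →ₗ[R] R)) → ((⨂[R] _i : Fin k, M) →ₗ[R] R) := fun f =>
    PiTensorProduct.lift ((MultilinearMap.mkPiAlgebra R (Fin k) R).compLinearMap
      fun i => f i ∘ₗ P η)
  have hΦ : ∀ f (y : Fin k → M), Φ f (⨂ₜ[R] i, y i) = ∏ i, f i (P η (y i)) := fun f y => by
    simp [Φ]
  have hlow : ∀ {c : Fin k → Γ} {y : Fin k → M}, (∀ i, y i ∈ F₁ (c i)) → ∀ f : Fin k → (M →ₗ[R] R),
      (∀ e : {e : Fin k → Γ // ∑ i, e i = ∑ i, c i}, ∀ z : Π i, F₂ (e.1 i),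
        ∏ i, f i (P η (z i : M)) = 0) → ∏ i, f i (P η (y i)) = 0 := by
    intro c y hy f hf
    have hmem : (⨂ₜ[R] i, y i) ∈ ⨆ e : {e : Fin k → Γ // ∑ i, e i = ∑ i, c i},
        LinearMap.range (PiTensorProduct.map (R := R) (fun i => (F₂ (e.1 i)).subtype)) := by
      rw [← h]
      refine Submodule.mem_iSup_of_mem ⟨c, rfl⟩ ⟨⨂ₜ[R] i, ⟨y i, hy i⟩, ?_⟩
      simp
    rw [← hΦ f y]
    have hle : (⨆ e : {e : Fin k → Γ // ∑ i, e i = ∑ i, c i},
        LinearMap.range (PiTensorProduct.map (R := R) (fun i => (F₂ (e.1 i)).subtype))) ≤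
        LinearMap.ker (Φ f) := by
      refine iSup_le fun e => ?_
      rintro _ ⟨t, rfl⟩
      rw [LinearMap.mem_ker, ← LinearMap.comp_apply]
      refine LinearMap.congr_fun (?_ : _ = (0 : _ →ₗ[R] R)) t
      ext z
      simp only [LinearMap.compMultilinearMap_apply, LinearMap.comp_apply, PiTensorProduct.map_tprod,
        hΦ, LinearMap.zero_apply]
      exact hf e z
    exact hle hmem
  -- a vector of the `η`-piece which is nonzero at `m`
  obtain ⟨ψ, z, hz, hψz⟩ : ∃ (ψ : M →ₗ[R] R) (z : M), z ∈ G η ∧ ψ z ∉ m := by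
    by_contra! hcon
    have hfin := finite_piece hG η
    have hle : G η ≤ m • G η := by
      intro w hw
      obtain ⟨n, p, q, -, -, hpq⟩ := Module.Finite.exists_comp_eq_id_of_projective R M
      have hw2 : w = ∑ j, (q w j) • P η (p (Pi.single j 1)) := by
        conv_lhs => rw [← proj_idem hG hw, ← LinearMap.id_apply (R := R) w, ← hpq,
          LinearMap.comp_apply, pi_eq_sum_univ' (q w), map_sum, map_sum]
        exact Finset.sum_congr rfl fun j _ => by simp [P, map_smul, LinearMap.single_apply]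
      rw [hw2]
      exact Submodule.sum_mem _ fun j _ =>
        Submodule.smul_mem_smul (hcon (LinearMap.proj j ∘ₗ q) w hw) (proj_mem hG η _)
    obtain ⟨r, hr, hr0⟩ := Submodule.exists_sub_one_mem_and_smul_eq_zero_of_fg_of_le_smul m (G η)
      (Module.Finite.iff_fg.1 hfin) hle
    have hrm : r ∈ m := hgm (LinearMap.mem_ker.2 (hr0 g (proj_mem hG η x)))
    exact hm.ne_top ((Ideal.eq_top_iff_one m).2 (by simpa using sub_mem hrm hr))
  -- a vector of `F₁ η` with a unit `η`-component at `m`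
  obtain ⟨y, hy, hψy⟩ : ∃ y ∈ F₁ η, ψ (P η y) ∉ m := by
    by_contra! hcon
    have hz' : (⨂ₜ[R] _i : Fin k, z) ∈ ⨆ c : {c : Fin k → Γ // ∑ i, c i = ∑ _i : Fin k, η},
        LinearMap.range (PiTensorProduct.map (R := R) (fun i => (F₁ (c.1 i)).subtype)) := by
      rw [h]
      refine Submodule.mem_iSup_of_mem ⟨fun _ => η, rfl⟩ ⟨⨂ₜ[R] _i, ⟨z, ?_⟩, ?_⟩
      · rw [h₂]; exact le_biSup G Set.self_mem_Ici hz
      · simp
    have hle : (⨆ c : {c : Fin k → Γ // ∑ i, c i = ∑ _i : Fin k, η},
        LinearMap.range (PiTensorProduct.map (R := R) (fun i => (F₁ (c.1 i)).subtype))) ≤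
        Submodule.comap (Φ fun _ => ψ) m := by
      refine iSup_le fun c => ?_
      rintro _ ⟨t, rfl⟩
      rw [Submodule.mem_comap, ← LinearMap.comp_apply]
      suffices LinearMap.range (Φ (fun _ => ψ) ∘ₗ PiTensorProduct.map (fun i => (F₁ (c.1 i)).subtype)) ≤ m from
        this ⟨t, rfl⟩
      rw [LinearMap.range_eq_map, ← PiTensorProduct.span_tprod_eq_top, Submodule.map_span,
        Submodule.span_le]
      rintro _ ⟨_, ⟨w, rfl⟩, rfl⟩
      rw [LinearMap.comp_apply, PiTensorProduct.map_tprod, hΦ]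
      obtain ⟨i, -, hi⟩ := Finset.exists_le_of_sum_le
        (Finset.univ_nonempty_iff.2 ⟨⟨0, hk⟩⟩) (le_of_eq c.2.symm)
      refine Ideal.prod_mem (I := m) (Finset.mem_univ i) ?_
      exact hcon _ (hanti hi (w i).2)
    have := hle hz'
    rw [Submodule.mem_comap, hΦ] at this
    obtain ⟨i, -, hi⟩ := (hm.isPrime.prod_mem_iff).1 this
    rw [proj_idem hG hz] at hi
    exact hψz hi
  -- conclude
  let i₀ : Fin k := ⟨0, hk⟩
  have hmain : ∀ φ : M →ₗ[R] R, φ g * ψ (P η y) ^ (k - 1) = 0 := by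
    intro φ
    have := hlow (c := Function.update (fun _ => η) i₀ γ) (y := Function.update (fun _ => y) i₀ x)
      (fun i => by
        rcases eq_or_ne i i₀ with rfl | hne
        · simpa using hx
        · simpa [hne] using hy)
      (Function.update (fun _ => ψ) i₀ φ) (fun e w => ?_)
    · rw [← Finset.mul_prod_erase _ _ (Finset.mem_univ i₀),
        Finset.prod_congr rfl (g := fun _ => ψ (P η y)) (fun j hj => by simp [Finset.ne_of_mem_erase hj]),
        Finset.prod_const] at this
      simpa [g] using this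
    · obtain ⟨i, hi⟩ : ∃ i, η < e.1 i := by
        by_contra! hle
        have h1 : ∑ i, e.1 i ≤ ∑ _i : Fin k, η := Finset.sum_le_sum fun i _ => hle i
        rw [e.2] at h1
        refine not_lt_of_ge h1 (Finset.sum_lt_sum (fun i _ => ?_) ⟨i₀, Finset.mem_univ _, by simpa using hη⟩)
        rcases eq_or_ne i i₀ with rfl | hne
        · simpa using hη.le
        · simp [hne]
      refine Finset.prod_eq_zero (Finset.mem_univ i) ?_
      have hw := le_of_eq (h₂ (e.1 i)) (w i).2
      rw [show P η (w i : M) = 0 from proj_eq_zero hG (fun hh => not_le_of_gt hi hh) hw, map_zero]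
  have hkill : ψ (P η y) ^ (k - 1) • g = 0 :=
    (Module.forall_dual_apply_eq_zero_iff R _).1 fun φ => by
      rw [map_smul, smul_eq_mul, mul_comm]; exact hmain φ
  exact hψy (hm.isPrime.mem_of_pow_mem _ (hgm (LinearMap.mem_ker.2 hkill)))

end Power

end Groth.Agent.FiltModLib
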