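import Mathlib

/-!
# Split filtrations indexed by a linearly ordered set
-/

namespace Groth.Agent.FiltModLib

open scoped Classical

variable {Γ : Type*} [LinearOrder Γ] {R : Type*} [CommRing R] {M : Type*} [AddCommGroup M] [Module R M]

/-- Sections of the graded pieces spanning the module give a splitting. -/
theorem splits_of_sections {F Fp G : Γ → Submodule R M} (hF : Antitone F)
    (hFp : ∀ γ, Fp γ = ⨆ η ∈ Set.Ioi γ, F η) (hG : ∀ γ, G γ ≤ F γ) (hdisj : ∀ γ, G γ ⊓ Fp γ = ⊥)
    (S : Finset Γ) (htop : S.sup G = ⊤) :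
    DirectSum.IsInternal G ∧ ∀ γ, F γ = ⨆ η ∈ Set.Ici γ, G η := by
  have hle : ∀ γ, (⨆ η ∈ Set.Ici γ, G η) ≤ F γ := fun γ => iSup₂_le fun η hη => (hG η).trans (hF hη)
  -- peel off the elements of `S` from the bottom
  have key : ∀ γ, F γ ≤ (S.filter (γ ≤ ·)).sup G := by
    intro γ x hx
    suffices h : ∀ T : Finset Γ, T ⊆ S → x ∈ T.sup G → x ∈ (S.filter (γ ≤ ·)).sup G from
      h S subset_rfl (by rw [htop]; trivial)
    intro T
    induction T using Finset.induction_on_min with
    | empty => intro _ hx0; rw [Finset.sup_empty, Submodule.mem_bot] at hx0; rw [hx0]; exact zero_mem _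
    | insert a s ha ih =>
      intro hTS hxT
      by_cases hγa : γ ≤ a
      · refine (Finset.sup_le fun η hη => ?_ : (insert a s).sup G ≤ _) hxT
        refine Finset.le_sup (f := G) (Finset.mem_filter.2 ⟨hTS hη, ?_⟩)
        rcases Finset.mem_insert.1 hη with rfl | hη'
        · exact hγa
        · exact hγa.trans (ha η hη').le
      rw [Finset.sup_insert, Submodule.mem_sup] at hxT
      obtain ⟨g, hg, y, hy, rfl⟩ := hxT
      have hy' : y ∈ Fp a := by
        refine (Finset.sup_le fun η hη => ?_ : s.sup G ≤ _) hy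
        rw [hFp]
        exact (hG η).trans (le_biSup F (ha η hη))
      have hxa : g + y ∈ Fp a := by
        rw [hFp]
        exact le_biSup F (show γ ∈ Set.Ioi a from lt_of_not_ge hγa) hx
      have hg0 : g = 0 := by
        rw [← Submodule.mem_bot R, ← hdisj a]
        exact ⟨hg, by simpa using sub_mem hxa hy'⟩
      simp only [hg0, zero_add] at hx ih ⊢
      exact ih (fun η hη => hTS (Finset.mem_insert_of_mem hη)) hy
  have heq : ∀ γ, F γ = ⨆ η ∈ Set.Ici γ, G η := fun γ => le_antisymm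
    ((key γ).trans (Finset.sup_le fun η hη => le_biSup G (show η ∈ Set.Ici γ from (Finset.mem_filter.1 hη).2)))
    (hle γ)
  refine ⟨?_, heq⟩
  rw [DirectSum.isInternal_submodule_iff_iSupIndep_and_iSup_eq_top]
  refine ⟨?_, eq_top_iff.2 (htop ▸ Finset.sup_le fun η _ => le_iSup G η)⟩
  rw [iSupIndep_iff_finset_sum_eq_zero_imp_eq_zero]
  intro T v hv hsum
  induction T using Finset.induction_on_min with
  | empty => simp
  | insert a s ha ih =>
    have has : a ∉ s := fun h => lt_irrefl a (ha a h)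
    rw [Finset.sum_insert has] at hsum
    have hy : ∑ i ∈ s, v i ∈ Fp a := Submodule.sum_mem _ fun η hη => by
      rw [hFp]
      exact le_biSup F (show η ∈ Set.Ioi a from ha η hη) (hG η (hv η (Finset.mem_insert_of_mem hη)))
    have h0 : v a = 0 := by
      rw [← Submodule.mem_bot R, ← hdisj a]
      refine ⟨hv a (Finset.mem_insert_self a s), ?_⟩
      rw [eq_neg_of_add_eq_zero_left hsum]
      exact neg_mem hy
    rw [h0, zero_add] at hsum
    intro i hi
    rcases Finset.mem_insert.1 hi with rfl | hi'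
    · exact h0
    · exact ih (fun η hη => hv η (Finset.mem_insert_of_mem hη)) hsum i hi'

variable {G : Γ → Submodule R M}

/-- The projection onto a piece of an internal direct sum. -/
noncomputable def proj (hG : DirectSum.IsInternal G) (γ : Γ) : M →ₗ[R] M :=
  (G γ).subtype ∘ₗ DirectSum.component R Γ (fun i => G i) γ ∘ₗ
    (LinearEquiv.ofBijective (DirectSum.coeLinearMap G) hG).symm.toLinearMap

theorem proj_of_mem (hG : DirectSum.IsInternal G) {γ η : Γ} {x : M} (hx : x ∈ G η) :
    proj hG γ x = if η = γ then x else 0 := by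
  have h : (LinearEquiv.ofBijective (DirectSum.coeLinearMap G) hG).symm x =
      DirectSum.lof R Γ (fun i => G i) η ⟨x, hx⟩ := by
    rw [LinearEquiv.symm_apply_eq]
    exact (DirectSum.coeLinearMap_of G η ⟨x, hx⟩).symm
  simp only [proj, LinearMap.coe_comp, LinearEquiv.coe_coe, Function.comp_apply, h,
    Submodule.subtype_apply]
  rcases eq_or_ne η γ with rfl | hne
  · rw [if_pos rfl, DirectSum.component.lof_self]
  · rw [if_neg hne, DirectSum.component.of, dif_neg hne]
    rfl

theorem proj_mem (hG : DirectSum.IsInternal G) (γ : Γ) (x : M) : proj hG γ x ∈ G γ :=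
  Submodule.coe_mem _

theorem proj_idem (hG : DirectSum.IsInternal G) {γ : Γ} {x : M} (hx : x ∈ G γ) : proj hG γ x = x := by
  rw [proj_of_mem hG hx, if_pos rfl]

theorem exists_finset [Module.Finite R M] (hG : DirectSum.IsInternal G) :
    ∃ S : Finset Γ, S.sup G = ⊤ ∧ ∀ γ, γ ∉ S → G γ = ⊥ := by
  obtain ⟨t, ht⟩ := (Module.Finite.fg_top : (⊤ : Submodule R M).FG)
  let e := LinearEquiv.ofBijective (DirectSum.coeLinearMap G) hG
  let S : Finset Γ := t.biUnion fun x => (e.symm x).support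
  have hS : S.sup G = ⊤ := by
    rw [eq_top_iff, ← ht, Submodule.span_le]
    intro x hx
    rw [SetLike.mem_coe, ← e.apply_symm_apply x, ← DirectSum.sum_support_of (e.symm x), map_sum]
    refine Submodule.sum_mem _ fun η hη => Finset.le_sup (f := G)
      (show η ∈ S from Finset.mem_biUnion.2 ⟨x, hx, hη⟩) ?_
    rw [LinearEquiv.ofBijective_apply, DirectSum.coeLinearMap_of]
    exact Submodule.coe_mem _
  refine ⟨S, hS, fun γ hγ => eq_bot_iff.2 fun x hx => ?_⟩
  have : S.sup G ≤ LinearMap.ker (proj hG γ) := Finset.sup_le fun η hη y hy => by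
    rw [LinearMap.mem_ker, proj_of_mem hG hy, if_neg (fun h : η = γ => hγ (h ▸ hη))]
  have h2 := this (hS.symm ▸ Submodule.mem_top : x ∈ S.sup G)
  rw [LinearMap.mem_ker, proj_idem hG hx] at h2
  exact h2

theorem biSup_Ioi {F : Γ → Submodule R M} (hF : ∀ γ, F γ = ⨆ η ∈ Set.Ici γ, G η) (γ : Γ) :
    (⨆ η ∈ Set.Ioi γ, F η) = ⨆ η ∈ Set.Ioi γ, G η := by
  refine le_antisymm (iSup₂_le fun η hη => ?_) (iSup₂_le fun η hη => ?_)
  · rw [hF]
    exact iSup₂_le fun θ hθ => le_biSup G (show θ ∈ Set.Ioi γ from lt_of_lt_of_le hη hθ)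
  · refine le_trans ?_ (le_biSup F hη)
    rw [hF]
    exact le_biSup G (Set.self_mem_Ici)

theorem proj_eq_zero (hG : DirectSum.IsInternal G) {γ : Γ} {s : Set Γ} (hs : γ ∉ s) {x : M}
    (hx : x ∈ ⨆ η ∈ s, G η) : proj hG γ x = 0 := by
  have : (⨆ η ∈ s, G η) ≤ LinearMap.ker (proj hG γ) := iSup₂_le fun η hη y hy => by
    rw [LinearMap.mem_ker, proj_of_mem hG hy, if_neg (fun h : η = γ => hs (h ▸ hη))]
  exact this hx

theorem antitone_of_split {F : Γ → Submodule R M} (hF : ∀ γ, F γ = ⨆ η ∈ Set.Ici γ, G η) :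
    Antitone F := fun a b hab => by
  rw [hF, hF]
  exact biSup_mono fun η hη => le_trans hab hη

theorem split_pieces (hG : DirectSum.IsInternal G) {F : Γ → Submodule R M}
    (hF : ∀ γ, F γ = ⨆ η ∈ Set.Ici γ, G η) (γ : Γ) :
    F γ = G γ ⊔ (⨆ η ∈ Set.Ioi γ, F η) ∧ G γ ⊓ (⨆ η ∈ Set.Ioi γ, F η) = ⊥ := by
  rw [biSup_Ioi hF]
  constructor
  · rw [hF, ← iSup_singleton (f := G) (b := γ), ← iSup_union]
    congr 1
    ext η
    have : γ ≤ η ↔ η = γ ∨ γ < η := by rw [le_iff_lt_or_eq, eq_comm (a := η)]; tauto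
    congr 1
    simp [this]
  · rw [eq_bot_iff]
    rintro x ⟨hx, hx'⟩
    rw [Submodule.mem_bot, ← proj_idem hG hx]
    exact proj_eq_zero hG (by simp) hx'

/-- The graded piece of a split filtration is the corresponding piece of the grading. -/
noncomputable def pieceEquiv {N F P : Submodule R M} (h : F = N ⊔ P) (h' : N ⊓ P = ⊥) :
    N ≃ₗ[R] (F ⧸ P.comap F.subtype) := by
  have hNF : N ≤ F := h ▸ le_sup_left
  refine LinearEquiv.ofBijective ((P.comap F.subtype).mkQ ∘ₗ Submodule.inclusion hNF) ⟨?_, ?_⟩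
  · rw [← LinearMap.ker_eq_bot, eq_bot_iff]
    rintro x hx
    rw [LinearMap.mem_ker, LinearMap.comp_apply, Submodule.mkQ_apply,
      Submodule.Quotient.mk_eq_zero] at hx
    have : (x : M) ∈ N ⊓ P := ⟨x.2, hx⟩
    rw [h', Submodule.mem_bot] at this
    exact Subtype.ext this
  · intro y
    obtain ⟨⟨z, hz⟩, rfl⟩ := Submodule.mkQ_surjective _ y
    have hz' := hz
    rw [h, Submodule.mem_sup] at hz'
    obtain ⟨n, hn, p, hp, rfl⟩ := hz'
    refine ⟨⟨n, hn⟩, ?_⟩
    rw [LinearMap.comp_apply, Submodule.mkQ_apply, Submodule.mkQ_apply, Submodule.Quotient.eq,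
      Submodule.mem_comap]
    simpa using hp

theorem exists_complement (F P : Submodule R M) [Module.Projective R (F ⧸ P.comap F.subtype)] :
    ∃ N : Submodule R M, N ≤ F ∧ N ⊓ P = ⊥ ∧ F ≤ N ⊔ P := by
  obtain ⟨s, hs⟩ := Module.projective_lifting_property (P.comap F.subtype).mkQ LinearMap.id
    (Submodule.mkQ_surjective _)
  refine ⟨LinearMap.range (F.subtype ∘ₗ s), ?_, ?_, ?_⟩
  · rintro _ ⟨y, rfl⟩; exact (s y).2
  · rw [eq_bot_iff]
    rintro _ ⟨⟨y, rfl⟩, hy⟩
    have h0 : (P.comap F.subtype).mkQ (s y) = 0 := (Submodule.Quotient.mk_eq_zero _).2 hy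
    have h1 : y = 0 := (LinearMap.congr_fun hs y).symm.trans h0
    simp [h1]
  · intro x hx
    set y := (P.comap F.subtype).mkQ ⟨x, hx⟩
    have h0 : (P.comap F.subtype).mkQ (⟨x, hx⟩ - s y) = 0 := by
      rw [map_sub, sub_eq_zero]; exact (LinearMap.congr_fun hs y).symm
    rw [Submodule.mem_sup]
    refine ⟨s y, ⟨y, rfl⟩, x - s y, ?_, by abel⟩
    have h1 := (Submodule.Quotient.mk_eq_zero _).1 h0
    exact h1

theorem projective_piece [Module.Projective R M] (hG : DirectSum.IsInternal G) (γ : Γ) :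
    Module.Projective R (G γ) :=
  .of_split (G γ).subtype ((proj hG γ).codRestrict (G γ) (proj_mem hG γ))
    (by ext x; exact proj_idem hG x.2)

theorem finite_piece [Module.Finite R M] (hG : DirectSum.IsInternal G) (γ : Γ) :
    Module.Finite R (G γ) :=
  .of_surjective ((proj hG γ).codRestrict (G γ) (proj_mem hG γ))
    fun x => ⟨x, Subtype.ext (proj_idem hG x.2)⟩

end Groth.Agent.FiltModLib
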